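import Groth.Agent.L21.Mod.Locality
import Groth.Agent.L17.ClosedPush
import Groth.Agent.L00.StalkFunctor
import Groth.Agent.L07.FittStrict
import Groth.Agent.L07.PrinParts.Mod
import Groth.Agent.L21.RR.Coh
import Groth.Agent.L03.Euler.Basic

/-!
The part of a module supported on a clopen subset.
-/

set_option autoImplicit false
set_option backward.isDefEq.respectTransparency false
set_option linter.style.haveILetI false

universe u

open CategoryTheory CategoryTheory.Limits AlgebraicGeometry TopologicalSpace

noncomputable section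

namespace Groth.L21.DisjSS

open Groth.L00.Tensor (tensorMap)

variable {X : Scheme.{u}} (U : X.Opens)

/-- `M ↦ j_*(M|_U)`. -/
abbrev part : X.Modules ⥤ X.Modules :=
  Scheme.Modules.restrictFunctor U.ι ⋙ Scheme.Modules.pushforward U.ι

/-- The projection onto the part on `U`. -/
def proj (M : X.Modules) : M ⟶ (part U).obj M :=
  (Scheme.Modules.restrictAdjunction U.ι).unit.app M

theorem bijective_stalk_of_restrict {M N : X.Modules} (φ : M ⟶ N)
    [IsIso ((Scheme.Modules.restrictFunctor U.ι).map φ)] {x : X} (hx : x ∈ U) :
    Function.Bijective ((Groth.L00.Stk.F X x).map φ) := by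
  have h := (Groth.L21.Mod.isIso_iff_stalk _).1 ‹IsIso ((Scheme.Modules.restrictFunctor U.ι).map φ)› ⟨x, hx⟩
  rw [Groth.L21.Mod.restrict_stalk_map] at h
  haveI := h
  have h2 : IsIso ((Groth.L21.Mod.stalkF X x).map φ) :=
    ((MorphismProperty.isomorphisms AddCommGrpCat.{u}).cancel_right_of_respectsIso _ _).mp
      (((MorphismProperty.isomorphisms AddCommGrpCat.{u}).cancel_left_of_respectsIso _ _).mp h)
  haveI := h2
  exact ConcreteCategory.bijective_of_isIso ((Groth.L21.Mod.stalkF X x).map φ)

/-- On `U` the projection is bijective. -/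
theorem bijective_proj (M : X.Modules) {x : X} (hx : x ∈ U) :
    Function.Bijective ((Groth.L00.Stk.F X x).map (proj U M)) := by
  haveI : IsIso ((Scheme.Modules.restrictFunctor U.ι).map (proj U M)) := by
    have h := (Scheme.Modules.restrictAdjunction U.ι).left_triangle_components M
    haveI : IsIso ((Scheme.Modules.restrictAdjunction U.ι).counit.app ((Scheme.Modules.restrictFunctor U.ι).obj M)) :=
      inferInstance
    have h2 : (Scheme.Modules.restrictFunctor U.ι).map (proj U M) =
        inv ((Scheme.Modules.restrictAdjunction U.ι).counit.app ((Scheme.Modules.restrictFunctor U.ι).obj M)) := by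
      rw [← cancel_mono ((Scheme.Modules.restrictAdjunction U.ι).counit.app ((Scheme.Modules.restrictFunctor U.ι).obj M)),
        IsIso.inv_hom_id]
      exact h
    rw [h2]
    infer_instance
  exact bijective_stalk_of_restrict U _ hx

variable (hU : IsClopen (U : Set X))

include hU in
theorem isClosedImmersion_ι : IsClosedImmersion U.ι :=
  .of_isPreimmersion _ (by rw [Scheme.Opens.range_ι]; exact hU.1)

include hU in
/-- Off `U` the part on `U` vanishes. -/
theorem subsingleton_part (M : X.Modules) {x : X} (hx : x ∉ U) :
    Subsingleton (((part U).obj M).presheaf.stalk x) := by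
  haveI := isClosedImmersion_ι U hU
  exact Groth.L17.ClosedPush.subsingleton_stalk_push U.ι _ (by rw [Scheme.Opens.range_ι]; exact hx)

include hU in
/-- A module supported on `U` is its part on `U`. -/
theorem isIso_proj {M : X.Modules} (h : ∀ x ∉ U, Subsingleton (M.presheaf.stalk x)) : IsIso (proj U M) := by
  refine (Groth.L21.Mod.isIso_iff_stalk_bijective _).2 fun x => ?_
  by_cases hx : x ∈ U
  · exact bijective_proj U M hx
  · haveI := h x hx
    haveI := subsingleton_part U hU M hx
    exact ⟨fun a b _ => Subsingleton.elim (α := M.presheaf.stalk x) a b,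
      fun b => ⟨0, Subsingleton.elim (α := ((part U).obj M).presheaf.stalk x) _ _⟩⟩

/-- The part on `U` only depends on the stalks in `U`. -/
theorem isIso_part_map {M N : X.Modules} (φ : M ⟶ N)
    (h : ∀ x ∈ U, Function.Bijective ((Groth.L00.Stk.F X x).map φ)) : IsIso ((part U).map φ) := by
  haveI : IsIso ((Scheme.Modules.restrictFunctor U.ι).map φ) := by
    refine (Groth.L21.Mod.isIso_iff_stalk _).2 fun y => ?_
    rw [Groth.L21.Mod.restrict_stalk_map]
    haveI : IsIso ((Groth.L21.Mod.stalkF X (U.ι y)).map φ) :=
      (ConcreteCategory.isIso_iff_bijective _).2 (h _ y.2)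
    infer_instance
  exact Functor.map_isIso (Scheme.Modules.pushforward U.ι) _

include hU in
theorem isCoh_part [IsLocallyNoetherian X] {M : X.Modules} (hM : Coh.IsCoh M) : Coh.IsCoh ((part U).obj M) := by
  haveI := isClosedImmersion_ι U hU
  exact Groth.L07.PrinParts.isCoh_pushforward_finite U.ι (Groth.L07.FittStrict.isCoh_restrict M hM U)

instance mono_part_map {M N : X.Modules} (φ : M ⟶ N) [Mono φ] : Mono ((part U).map φ) := by
  haveI : (Scheme.Modules.pushforward U.ι).IsRightAdjoint :=
    (Scheme.Modules.restrictAdjunction U.ι).isRightAdjoint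
  exact Functor.map_mono (Scheme.Modules.pushforward U.ι) ((Scheme.Modules.restrictFunctor U.ι).map φ)

include hU in
theorem epi_proj (M : X.Modules) : Epi (proj U M) := by
  refine (Groth.L21.Mod.epi_iff_stalk_surjective _).2 fun x => ?_
  by_cases hx : x ∈ U
  · exact (bijective_proj U M hx).2
  · haveI := subsingleton_part U hU M hx
    exact fun b => ⟨0, Subsingleton.elim (α := ((part U).obj M).presheaf.stalk x) _ _⟩

/-- Twisting commutes with taking parts. -/
theorem bijective_tensor_proj (M L : X.Modules) {x : X} (hx : x ∈ U) :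
    Function.Bijective ((Groth.L00.Stk.F X x).map (tensorMap (proj U M) (𝟙 L))) := by
  haveI : IsIso ((Groth.L00.Stk.F X x).map (proj U M)) :=
    (ConcreteCategory.isIso_iff_bijective _).2 (bijective_proj U M hx)
  have h : IsIso (ModuleCat.ofHom (TensorProduct.map ((Groth.L00.Stk.F X x).map (proj U M)).hom
      ((Groth.L00.Stk.F X x).map (𝟙 L)).hom)) := by
    rw [CategoryTheory.Functor.map_id]
    refine (ConcreteCategory.isIso_iff_bijective _).2 ?_
    exact (TensorProduct.congr (asIso ((Groth.L00.Stk.F X x).map (proj U M))).toLinearEquiv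
      (LinearEquiv.refl _ _)).bijective
  haveI := h
  have h2 := Groth.L00.Stk.τ_natural x (proj U M) (𝟙 L)
  haveI : IsIso ((Groth.L00.Stk.τ x M L).hom ≫ (Groth.L00.Stk.F X x).map (tensorMap (proj U M) (𝟙 L))) := by
    rw [← h2]
    infer_instance
  haveI := IsIso.of_isIso_comp_left (Groth.L00.Stk.τ x M L).hom
    ((Groth.L00.Stk.F X x).map (tensorMap (proj U M) (𝟙 L)))
  exact ConcreteCategory.bijective_of_isIso _

include hU in
theorem subsingleton_tensor_part (M L : X.Modules) {x : X} (hx : x ∉ U) :
    Subsingleton ((CohB1.tensorMod ((part U).obj M) L).presheaf.stalk x) := by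
  refine subsingleton_of_forall_eq 0 fun v => ?_
  obtain ⟨t, rfl⟩ := (Groth.L00.Stk.τ x ((part U).obj M) L).toLinearEquiv.surjective v
  haveI := subsingleton_part U hU M hx
  refine Eq.trans (congrArg _ ?_) (map_zero (Groth.L00.Stk.τ x ((part U).obj M) L).toLinearEquiv)
  induction t using TensorProduct.induction_on with
  | zero => rfl
  | tmul p q =>
    exact (congrArg (· ⊗ₜ q) (Subsingleton.elim (α := ((part U).obj M).presheaf.stalk x) p 0)).trans
      (TensorProduct.zero_tmul _ _)
  | add p q hp hq => rw [hp, hq, add_zero]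

section Euler

variable (k : Type u) [Field k] [X.Over (Spec (CommRingCat.of k))]

include hU in
theorem euler_of_supported {M : X.Modules} (h : ∀ x ∉ U, Subsingleton (M.presheaf.stalk x)) :
    Curv2.euler k X M = Curv2.euler k X ((part U).obj M) :=
  haveI := isIso_proj U hU h
  Groth.L21.RR.euler_congr k (asIso (proj U M))

theorem euler_part_congr {M N : X.Modules} (φ : M ⟶ N)
    (h : ∀ x ∈ U, Function.Bijective ((Groth.L00.Stk.F X x).map φ)) :
    Curv2.euler k X ((part U).obj M) = Curv2.euler k X ((part U).obj N) :=
  haveI := isIso_part_map U φ h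
  Groth.L21.RR.euler_congr k (asIso ((part U).map φ))

include hU in
theorem euler_tensor_part (M L : X.Modules) :
    Curv2.euler k X (CohB1.tensorMod ((part U).obj M) L) =
      Curv2.euler k X ((part U).obj (CohB1.tensorMod M L)) := by
  rw [euler_part_congr U k (tensorMap (proj U M) (𝟙 L)) fun x hx => bijective_tensor_proj U M L hx]
  exact euler_of_supported U hU k fun x hx => subsingleton_tensor_part U hU M L hx

variable [IsLocallyNoetherian X] [IsProper (X ↘ Spec (CommRingCat.of k))]

include hU in
/-- A module supported on two disjoint clopens is the sum of its parts. -/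
theorem euler_add_parts (V : X.Opens) (hV : IsClopen (V : Set X)) (hd : Disjoint (U : Set X) V)
    {M : X.Modules} (hM : Coh.IsCoh M) (h : ∀ x, x ∉ U → x ∉ V → Subsingleton (M.presheaf.stalk x)) :
    Curv2.euler k X M = Curv2.euler k X ((part U).obj M) + Curv2.euler k X ((part V).obj M) := by
  haveI := epi_proj U hU M
  let S := ShortComplex.mk (kernel.ι (proj U M)) (proj U M) (kernel.condition _)
  have hS : S.ShortExact :=
    { exact := ShortComplex.exact_kernel _
      mono_f := inferInstanceAs (Mono (kernel.ι _))
      epi_g := inferInstanceAs (Epi (proj U M)) }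
  have hK : Coh.IsCoh (kernel (proj U M)) :=
    (Groth.L16.CohKernel.isCoh_kernel_cokernel hM (isCoh_part U hU hM) (proj U M)).1
  have e := Groth.L03.Euler.euler_add (k := k) hS hK hM (isCoh_part U hU hM)
  have hstk : ∀ x, Function.Injective ((Groth.L00.Stk.F X x).map (kernel.ι (proj U M))) :=
    fun x => (Groth.L21.Mod.mono_iff_stalk_injective _).1 inferInstance x
  have hker : ∀ x, x ∉ V → Subsingleton ((kernel (proj U M)).presheaf.stalk x) := fun x hx => by
    refine subsingleton_of_forall_eq 0 fun v => hstk x ?_
    by_cases hxU : x ∈ U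
    · refine (bijective_proj U M hxU).1 ?_
      have h0 : (Groth.L00.Stk.F X x).map (kernel.ι (proj U M)) ≫ (Groth.L00.Stk.F X x).map (proj U M) = 0 := by
        rw [← Functor.map_comp, kernel.condition, Functor.map_zero]
      exact (congr($h0 v)).trans (congr($h0 0)).symm
    · haveI := h x hxU hx
      exact Subsingleton.elim (α := M.presheaf.stalk x) _ _
  have e2 : Curv2.euler k X (kernel (proj U M)) = Curv2.euler k X ((part V).obj M) := by
    rw [euler_of_supported V hV k hker]
    refine euler_part_congr V k (kernel.ι (proj U M)) fun x hx => ⟨hstk x, fun v => ?_⟩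
    haveI := subsingleton_part U hU M (x := x) fun hxU => Set.disjoint_left.1 hd hxU hx
    exact (ShortComplex.moduleCat_exact_iff _).1 (hS.exact.map (Groth.L00.Stk.F X x)) v
      (Subsingleton.elim (α := ((part U).obj M).presheaf.stalk x) _ _)
  rw [← e2, add_comm]
  exact e

end Euler

end Groth.L21.DisjSS
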