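import Groth.Agent.L21.DisjSS.Tensor
import Groth.Agent.L21.Bundle.RankTwoExt
import Groth.Agent.L05.GeomMult.Basic
import Groth.Agent.L18.RelAmpleLocal
import Groth.Agent.L18.GenLocus

/-!
Semistable invertible modules on a disjoint union of curves.
-/

set_option autoImplicit false
set_option backward.isDefEq.respectTransparency false
set_option linter.style.haveILetI false

universe u

open CategoryTheory CategoryTheory.Limits AlgebraicGeometry TopologicalSpace
open scoped ZeroObject

noncomputable section

namespace Groth.L21.DisjSS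

open Groth.L21.Bundle (rk dg rk_eq isCoh_of_rank locFree_of_mono rk_le_of_mono dg_le_of_mono dg_eq isZero_of_rank_zero)

variable (k : Type u) [Field k] {X : Scheme.{u}} [X.Over (Spec (CommRingCat.of k))]
  [IsProper (X ↘ Spec (CommRingCat.of k))] [Smooth (X ↘ Spec (CommRingCat.of k))]
  (hd : topologicalKrullDim X ≤ 1)

attribute [local irreducible] dg rk

include k hd in
/-- A component is an integral curve. -/
theorem component_facts (hpure : ∀ y : X, ¬ IsOpen ({y} : Set X)) (U : X.Opens) (hU : IsClopen (U : Set X))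
    (hUc : _root_.IsConnected (U : Set X)) :
    IsIntegral (U : Scheme.{u}) ∧ topologicalKrullDim (U : Scheme.{u}) = 1 := by
  haveI : IsLocallyNoetherian X := LocallyOfFiniteType.isLocallyNoetherian (X ↘ Spec (CommRingCat.of k))
  haveI := isClosedImmersion_ι U hU
  letI : (U : Scheme.{u}).Over (Spec (CommRingCat.of k)) := ⟨U.ι ≫ X ↘ Spec (CommRingCat.of k)⟩
  haveI : IsProper ((U : Scheme.{u}) ↘ Spec (CommRingCat.of k)) :=
    inferInstanceAs (IsProper (U.ι ≫ X ↘ Spec (CommRingCat.of k)))
  haveI : Smooth ((U : Scheme.{u}) ↘ Spec (CommRingCat.of k)) :=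
    inferInstanceAs (Smooth (U.ι ≫ X ↘ Spec (CommRingCat.of k)))
  haveI := Groth.L21.RR.isNoetherian_of_proper (X := (U : Scheme.{u})) k
  haveI : ConnectedSpace (U : Scheme.{u}) := isConnected_iff_connectedSpace.1 hUc
  haveI : IsIntegral (U : Scheme.{u}) := Groth.L21.NormalTotal.isIntegral_of_connected fun x =>
    Groth.L21.Smooth.isDomain_stalk ((U : Scheme.{u}) ↘ Spec (CommRingCat.of k)) x
  refine ⟨inferInstance, le_antisymm ((U.ι.isClosedEmbedding.isInducing.topologicalKrullDim_le).trans hd) ?_⟩
  obtain ⟨z, hz⟩ : ∃ z : (U : Scheme.{u}), z ≠ genericPoint (U : Scheme.{u}) := by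
    by_contra hc
    push Not at hc
    refine hpure (U.ι (genericPoint (U : Scheme.{u}))) ?_
    convert U.2 using 1
    ext y
    constructor
    · rintro rfl
      exact (genericPoint (U : Scheme.{u})).2
    · intro hy
      show y = U.ι (genericPoint (U : Scheme.{u}))
      rw [← hc ⟨y, hy⟩]
      rfl
  exact Groth.L05.GeomMult.one_le_dim_of_specializes
    ((genericPoint_spec (U : Scheme.{u})).specializes (Set.mem_univ z)) hz

variable [IsAlgClosed k]

include hd in
/-- An invertible module without Euler characteristic on every component. -/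
theorem exists_line_euler_zero (hpure : ∀ y : X, ¬ IsOpen ({y} : Set X)) :
    ∃ D : X.Modules, PicF.IsInvertible D ∧
      ∀ U : X.Opens, IsClopen (U : Set X) → _root_.IsConnected (U : Set X) → Curv2.euler k X ((part U).obj D) = 0 := by
  haveI : IsLocallyNoetherian X := LocallyOfFiniteType.isLocallyNoetherian (X ↘ Spec (CommRingCat.of k))
  haveI : X.IsSeparated := ⟨by rw [← terminal.comp_from (X ↘ Spec (CommRingCat.of k))]; infer_instance⟩
  haveI := Groth.L21.RR.isNoetherian_of_proper (X := X) k
  haveI := Groth.L21.NormRed.finite_connectedComponents (X := X)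
  let Q : Set X → Prop := fun S => ∃ D : X.Modules,
    (∀ y ∈ S, ∃ G : X.Opens, y ∈ G ∧ PicF.IsInvertible (D.restrict G.ι)) ∧
    (∀ y ∉ S, Subsingleton (D.presheaf.stalk y)) ∧
    ∀ U : X.Opens, IsClopen (U : Set X) → _root_.IsConnected (U : Set X) → (U : Set X) ⊆ S →
      Curv2.euler k X ((part U).obj D) = 0
  have hQ : Q Set.univ := by
    refine induction_components Q ⟨(0 : X.Modules), fun y hy => hy.elim, fun y _ => ?_, fun U _ hUc hUS =>
        absurd (hUS hUc.nonempty.some_mem) (Set.notMem_empty _)⟩ (fun A B hA hB hAB qA qB => ?_) (fun A hA hAc => ?_)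
    · exact (Groth.L21.Mod.isZero_iff_stalk_subsingleton _).1 (isZero_zero _) y
    · obtain ⟨DA, iA, sA, eA⟩ := qA
      obtain ⟨DB, iB, sB, eB⟩ := qB
      have hfst : ∀ y ∉ B, Function.Bijective ((Groth.L00.Stk.F X y).map (biprod.fst : DA ⊞ DB ⟶ DA)) := by
        intro y hy
        haveI := sB y hy
        let F := Groth.L00.Stk.F X y
        haveI : F.Additive := Functor.additive_of_preserves_binary_products _
        have hz : IsZero (F.obj DB) := @ModuleCat.isZero_of_subsingleton _ _ (F.obj DB)
          (inferInstanceAs (Subsingleton (DB.presheaf.stalk y)))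
        haveI : IsIso (F.map (biprod.fst : DA ⊞ DB ⟶ DA)) := ⟨F.map biprod.inl, by
          rw [← F.map_comp, ← F.map_id, ← biprod.total, F.map_add, F.map_comp (biprod.snd), hz.eq_of_tgt (F.map biprod.snd) 0,
            zero_comp, add_zero], by rw [← F.map_comp, biprod.inl_fst, F.map_id]⟩
        exact ConcreteCategory.bijective_of_isIso _
      have hsnd : ∀ y ∉ A, Function.Bijective ((Groth.L00.Stk.F X y).map (biprod.snd : DA ⊞ DB ⟶ DB)) := by
        intro y hy
        haveI := sA y hy
        let F := Groth.L00.Stk.F X y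
        haveI : F.Additive := Functor.additive_of_preserves_binary_products _
        have hz : IsZero (F.obj DA) := @ModuleCat.isZero_of_subsingleton _ _ (F.obj DA)
          (inferInstanceAs (Subsingleton (DA.presheaf.stalk y)))
        haveI : IsIso (F.map (biprod.snd : DA ⊞ DB ⟶ DB)) := ⟨F.map biprod.inr, by
          rw [← F.map_comp, ← F.map_id, ← biprod.total, F.map_add, F.map_comp (biprod.fst), hz.eq_of_tgt (F.map biprod.fst) 0,
            zero_comp, zero_add], by rw [← F.map_comp, biprod.inr_snd, F.map_id]⟩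
        exact ConcreteCategory.bijective_of_isIso _
      have hloc : ∀ {D D' : X.Modules} (φ : D ⟶ D') (C : Set X), IsOpen C →
          (∀ y ∈ C, Function.Bijective ((Groth.L00.Stk.F X y).map φ)) → ∀ (G : X.Opens) (y : X), y ∈ G → y ∈ C →
            PicF.IsInvertible (D'.restrict G.ι) → ∃ G' : X.Opens, y ∈ G' ∧ PicF.IsInvertible (D.restrict G'.ι) := by
        intro D D' φ C hC hφ G y hyG hyC hinv
        refine ⟨G ⊓ ⟨C, hC⟩, ⟨hyG, hyC⟩, ?_⟩
        have h1 : PicF.IsInvertible (D'.restrict (G ⊓ ⟨C, hC⟩ : X.Opens).ι) :=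
          Groth.L18.Ample.isInvertible_of_iso
            (Groth.L21.Mod.restrictLEIso D' (inf_le_left : G ⊓ ⟨C, hC⟩ ≤ G))
            (Groth.L18.Ample.isInvertible_of_iso ((Scheme.Modules.restrictFunctorIsoPullback _).app _).symm
              (Groth.L18.Ample.isInvertible_pullback _ hinv))
        haveI : IsIso ((Scheme.Modules.restrictFunctor (G ⊓ ⟨C, hC⟩ : X.Opens).ι).map φ) := by
          refine (Groth.L21.Mod.isIso_iff_stalk _).2 fun z => ?_
          rw [Groth.L21.Mod.restrict_stalk_map]
          haveI : IsIso ((Groth.L21.Mod.stalkF X ((G ⊓ ⟨C, hC⟩ : X.Opens).ι z)).map φ) :=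
            (ConcreteCategory.isIso_iff_bijective _).2 (hφ _ z.2.2)
          infer_instance
        exact Groth.L18.Ample.isInvertible_of_iso
          (asIso ((Scheme.Modules.restrictFunctor (G ⊓ ⟨C, hC⟩ : X.Opens).ι).map φ)).symm h1
      refine ⟨DA ⊞ DB, fun y hy => ?_, fun y hy => ?_, fun U hU hUc hUS => ?_⟩
      · rcases hy with hy | hy
        · obtain ⟨G, hyG, hG⟩ := iA y hy
          exact hloc biprod.fst A hA.2 (fun z hz => hfst z (Set.disjoint_left.1 hAB hz)) G y hyG hy hG
        · obtain ⟨G, hyG, hG⟩ := iB y hy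
          exact hloc biprod.snd B hB.2 (fun z hz => hsnd z (Set.disjoint_right.1 hAB hz)) G y hyG hy hG
      · haveI := sA y fun h => hy (Or.inl h)
        exact ⟨fun a b => (hfst y fun h => hy (Or.inr h)).1 (Subsingleton.elim (α := DA.presheaf.stalk y) _ _)⟩
      · rcases hUc.isPreconnected.subset_or_subset hA.2 hB.2 hAB hUS with h | h
        · rw [euler_part_congr U k biprod.fst fun y hy => hfst y (Set.disjoint_left.1 hAB (h hy))]
          exact eA U hU hUc h
        · rw [euler_part_congr U k biprod.snd fun y hy => hsnd y (Set.disjoint_right.1 hAB (h hy))]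
          exact eB U hU hUc h
    · let U : X.Opens := ⟨A, hA.2⟩
      have hU : IsClopen (U : Set X) := hA
      obtain ⟨hint, hdU⟩ := component_facts k hd hpure U hU hAc
      haveI := isClosedImmersion_ι U hU
      letI : (U : Scheme.{u}).Over (Spec (CommRingCat.of k)) := ⟨U.ι ≫ X ↘ Spec (CommRingCat.of k)⟩
      haveI : IsProper ((U : Scheme.{u}) ↘ Spec (CommRingCat.of k)) :=
        inferInstanceAs (IsProper (U.ι ≫ X ↘ Spec (CommRingCat.of k)))
      haveI : Smooth ((U : Scheme.{u}) ↘ Spec (CommRingCat.of k)) :=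
        inferInstanceAs (Smooth (U.ι ≫ X ↘ Spec (CommRingCat.of k)))
      haveI : IsLocallyNoetherian (U : Scheme.{u}) := isLocallyNoetherian_of_isOpenImmersion U.ι
      obtain ⟨A', hA', hdA'⟩ := Groth.L21.Bundle.exists_invertible_deg (X := (U : Scheme.{u})) k hdU
        (-(Curv2.euler k (U : Scheme.{u}) (Coh.structureModule (U : Scheme.{u}))))
      haveI := (Groth.L16.ProperFinite.isCoh_of_isInvertible hA').1
      let D := (Scheme.Modules.pushforward U.ι).obj A'
      let e : D.restrict U.ι ≅ A' := asIso ((Scheme.Modules.restrictAdjunction U.ι).counit.app A')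
      have hsub : ∀ y ∉ A, Subsingleton (D.presheaf.stalk y) := fun y hy =>
        Groth.L17.ClosedPush.subsingleton_stalk_push U.ι A' (by rw [Scheme.Opens.range_ι]; exact hy)
      refine ⟨D, fun y hy => ⟨U, hy, Groth.L18.Ample.isInvertible_of_iso e.symm hA'⟩, hsub,
        fun V hV hVc hVA => ?_⟩
      have hVU : (V : Set X) = A := subset_antisymm hVA
        (hAc.isPreconnected.subset_isClopen hV ⟨hVc.nonempty.some, hVA hVc.nonempty.some_mem, hVc.nonempty.some_mem⟩)
      rw [← euler_of_supported V hV k fun y hy => hsub y (hVU ▸ hy),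
        show D = (Coh.push U.ι).obj A' from rfl, Groth.L03.Euler.euler_push (k := k) U.ι A' inferInstance rfl]
      simp only [Curv2.deg] at hdA'
      push_cast at hdA'
      linarith
  obtain ⟨D, h1, -, h3⟩ := hQ
  exact ⟨D, Groth.L18.Ample.isInvertible_of_cover fun y => h1 y trivial,
    fun U hU hUc => h3 U hU hUc (Set.subset_univ _)⟩

include hd in
/-- Such a module is semistable for every polarisation. -/
theorem ss_of_euler_zero (hpure : ∀ y : X, ¬ IsOpen ({y} : Set X)) [Nonempty X] {L D : X.Modules}
    (hL : CohB1.IsAmple L) (hD : PicF.IsInvertible D)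
    (h : ∀ U : X.Opens, IsClopen (U : Set X) → _root_.IsConnected (U : Set X) → Curv2.euler k X ((part U).obj D) = 0) :
    _root_.ShStab.IsSemistable k X L D 1 := by
  haveI : IsLocallyNoetherian X := LocallyOfFiniteType.isLocallyNoetherian (X ↘ Spec (CommRingCat.of k))
  haveI : X.IsSeparated := ⟨by rw [← terminal.comp_from (X ↘ Spec (CommRingCat.of k))]; infer_instance⟩
  haveI := Groth.L21.RR.isNoetherian_of_proper (X := X) k
  haveI := Groth.L21.NormRed.finite_connectedComponents (X := X)
  have hDc := Groth.L16.ProperFinite.isCoh_of_isInvertible hD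
  have hD1 := Groth.L12.FinCov.isFinLocFreeOfRank_one_of_isInvertible hD
  have key : ∀ (F : X.Modules) (j : F ⟶ D), Mono j → Coh.IsCoh F → ∀ U : X.Opens, IsClopen (U : Set X) →
      _root_.IsConnected (U : Set X) → Curv2.euler k X ((part U).obj F) ≤ 0 ∧
        (IsZero ((part U).obj F) ∨ (U : Set X) ⊆ CohB1.support F) := by
    intro F j hj hF U hU hUc
    haveI := hj
    by_cases hz : IsZero ((part U).obj F)
    · exact ⟨le_of_eq (Groth.L03.Euler.euler_of_isZero hz), Or.inl hz⟩
    obtain ⟨hint, hdU⟩ := component_facts k hd hpure U hU hUc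
    haveI := isClosedImmersion_ι U hU
    letI : (U : Scheme.{u}).Over (Spec (CommRingCat.of k)) := ⟨U.ι ≫ X ↘ Spec (CommRingCat.of k)⟩
    haveI : IsProper ((U : Scheme.{u}) ↘ Spec (CommRingCat.of k)) :=
      inferInstanceAs (IsProper (U.ι ≫ X ↘ Spec (CommRingCat.of k)))
    haveI : Smooth ((U : Scheme.{u}) ↘ Spec (CommRingCat.of k)) :=
      inferInstanceAs (Smooth (U.ι ≫ X ↘ Spec (CommRingCat.of k)))
    haveI : IsLocallyNoetherian (U : Scheme.{u}) := isLocallyNoetherian_of_isOpenImmersion U.ι
    have hreg := Groth.L21.Smooth.regular_stalk (k := k) ((U : Scheme.{u}) ↘ Spec (CommRingCat.of k))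
    have hDU : FlatMod.IsFinLocFreeOfRank 1 (D.restrict U.ι) :=
      Groth.L12.FinCov.isFinLocFreeOfRank_one_of_isInvertible (Groth.L18.Ample.isInvertible_restrict hD U)
    have hFU := Groth.L07.FittStrict.isCoh_restrict F hF U
    let jU : F.restrict U.ι ⟶ D.restrict U.ι := (Scheme.Modules.restrictFunctor U.ι).map j
    haveI : Mono jU := inferInstanceAs (Mono ((Scheme.Modules.restrictFunctor U.ι).map j))
    have hl := locFree_of_mono hreg hdU.le jU hFU hDU
    have hle := rk_le_of_mono jU hFU (isCoh_of_rank hDU)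
    rw [rk_eq hDU] at hle
    have hr : rk (F.restrict U.ι) = 1 := by
      by_contra hne
      rw [show rk (F.restrict U.ι) = 0 by omega] at hl
      exact hz (Functor.map_isZero (Scheme.Modules.pushforward U.ι) (isZero_of_rank_zero hl))
    rw [hr] at hl
    refine ⟨?_, Or.inr fun y hy => ?_⟩
    · haveI := hFU.1
      haveI := (isCoh_of_rank hDU).1
      have h1 := dg_le_of_mono hdU.le k jU hFU (isCoh_of_rank hDU) (by rw [hr, rk_eq hDU])
      rw [← dg_eq k hl, ← dg_eq k hDU] at h1
      simp only [Curv2.deg] at h1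
      have h2 := h U hU hUc
      change Curv2.euler k X ((Coh.push U.ι).obj (D.restrict U.ι)) = 0 at h2
      rw [Groth.L03.Euler.euler_push (k := k) U.ι _ inferInstance rfl] at h2
      show Curv2.euler k X ((Coh.push U.ι).obj (F.restrict U.ι)) ≤ 0
      rw [Groth.L03.Euler.euler_push (k := k) U.ι _ inferInstance rfl]
      linarith
    · obtain ⟨θ⟩ := Groth.L22.CurveDeg.nonempty_stalk_equiv hl ⟨y, hy⟩
      refine (Groth.L21.Mod.mem_support_iff_not_isZero F y).2 fun hzy => ?_
      haveI hs0 : Subsingleton (F.presheaf.stalk y) := AddCommGrpCat.subsingleton_of_isZero hzy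
      haveI hs : Subsingleton ((F.restrict U.ι).presheaf.stalk ⟨y, hy⟩) :=
        @Equiv.subsingleton _ _ ((Groth.L21.Mod.restrictStalkF U.ι ⟨y, hy⟩).app F).addCommGroupIsoToAddEquiv.toEquiv hs0
      haveI : Subsingleton (Fin 1 → (U : Scheme.{u}).presheaf.stalk ⟨y, hy⟩) := θ.toEquiv.subsingleton
      exact zero_ne_one (congrFun (Subsingleton.elim (fun _ : Fin 1 => (0 : (U : Scheme.{u}).presheaf.stalk ⟨y, hy⟩)) 1) 0)
  have hp : _root_.ShStab.IsPure X D 1 := by
    intro F j hj hF hF0
    refine le_antisymm (dim_support_le hd F) ?_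
    obtain ⟨x, hx⟩ : ∃ x : X, ¬ Subsingleton (F.presheaf.stalk x) := by
      by_contra hc
      push Not at hc
      exact hF0 ((Groth.L21.Mod.isZero_iff_stalk_subsingleton _).2 hc)
    let U : X.Opens := ⟨connectedComponent x, (isClopen_connectedComponent x).2⟩
    have hU : IsClopen (U : Set X) := isClopen_connectedComponent x
    rcases (key F j hj hF U hU isConnected_connectedComponent).2 with hz | hs
    · haveI := (Groth.L21.Mod.isZero_iff_stalk_subsingleton _).1 hz x
      exact absurd ⟨fun a b => (bijective_proj U F (x := x) mem_connectedComponent).1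
        (Subsingleton.elim (α := ((part U).obj F).presheaf.stalk x) _ _)⟩ hx
    · have h1 : topologicalKrullDim ↥(U : Set X) = ((1 : ℕ) : WithBot ℕ∞) :=
        (component_facts k hd hpure U hU isConnected_connectedComponent).2
      rw [← h1]
      exact Groth.L03.Euler.topologicalKrullDim_set_mono hs
  have hD0 : ¬ IsZero D := fun hz => by
    obtain ⟨x⟩ := ‹Nonempty X›
    obtain ⟨θ⟩ := Groth.L22.CurveDeg.nonempty_stalk_equiv hD1 x
    haveI := (Groth.L21.Mod.isZero_iff_stalk_subsingleton _).1 hz x
    haveI : Subsingleton (Fin 1 → X.presheaf.stalk x) := θ.toEquiv.subsingleton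
    exact zero_ne_one (congrFun (Subsingleton.elim (fun _ : Fin 1 => (0 : X.presheaf.stalk x)) 1) 0)
  have hα : 0 < al k L D := al_pos k hd hL hDc hp hD0
  have hχ : Curv2.euler k X D = 0 := by
    refine le_antisymm ?_ ?_
    · have := linear_of_components k (a := 1) (b := 0) hL.1 hDc fun U hU hUc => by rw [h U hU hUc]; simp
      linarith
    · have := linear_of_components k (a := -1) (b := 0) hL.1 hDc fun U hU hUc => by rw [h U hU hUc]; simp
      linarith
  refine ss_of_ineq k hd hL hDc hD0 hp fun F j hj hF => ?_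
  rw [hχ, mul_zero]
  refine mul_nonpos_of_nonneg_of_nonpos hα.le ?_
  have := linear_of_components k (a := 1) (b := 0) hL.1 hF fun U hU hUc => by
    rw [one_mul, mul_zero]; exact (key F j hj hF U hU hUc).1
  linarith

end Groth.L21.DisjSS
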