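import Groth.Agent.L21.DisjSS.Basic
import Groth.Agent.L03.ShStab.Basic
import Groth.Agent.L03.ShStab.PolyOrd
import Groth.Agent.L21.NormRed.H0Conn
import Groth.Agent.L00.TensorMod
import Groth.Agent.L18.AmplePull

/-!
Semistability in dimension one in numbers, and on the parts of a disjoint union.
-/

set_option autoImplicit false
set_option backward.isDefEq.respectTransparency false
set_option linter.style.haveILetI false

universe u

open CategoryTheory CategoryTheory.Limits AlgebraicGeometry TopologicalSpace Polynomial StabCat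

noncomputable section

namespace Groth.L21.DisjSS

open Groth.L03.ShStab Groth.L03.ShStab.Basic

variable (k : Type u) [Field k] {X : Scheme.{u}} [X.Over (Spec (CommRingCat.of k))]

/-- The multiplicity in dimension one. -/
def al (L M : X.Modules) : ℤ :=
  Curv2.euler k X (CohB1.tensorMod M L) - Curv2.euler k X M

/-- A property of clopen sets that is additive holds on the whole space once it holds on components. -/
theorem induction_components {T : Type*} [TopologicalSpace T] [Finite (_root_.ConnectedComponents T)]
    (Q : Set T → Prop) (h0 : Q ∅)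
    (hU : ∀ A B : Set T, IsClopen A → IsClopen B → Disjoint A B → Q A → Q B → Q (A ∪ B))
    (hc : ∀ A : Set T, IsClopen A → _root_.IsConnected A → Q A) : Q Set.univ := by
  classical
  have hcl : ∀ c : _root_.ConnectedComponents T, IsClopen (ConnectedComponents.mk ⁻¹' {c}) := by
    have hclosed : ∀ d : _root_.ConnectedComponents T, IsClosed (ConnectedComponents.mk ⁻¹' {d}) := fun d => by
      obtain ⟨x, rfl⟩ := ConnectedComponents.surjective_coe d
      rw [connectedComponents_preimage_singleton]
      exact isClosed_connectedComponent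
    intro c
    refine ⟨hclosed c, ?_⟩
    rw [← isClosed_compl_iff, ← Set.preimage_compl, ← Set.biUnion_preimage_singleton]
    exact (Set.toFinite _).isClosed_biUnion fun d _ => hclosed d
  have hs : ∀ s : Finset (_root_.ConnectedComponents T),
      IsClopen (ConnectedComponents.mk ⁻¹' (s : Set (_root_.ConnectedComponents T))) ∧
        Q (ConnectedComponents.mk ⁻¹' (s : Set (_root_.ConnectedComponents T))) := by
    intro s
    induction s using Finset.induction_on with
    | empty => simp [h0, isClopen_empty]
    | insert c s hcs ih =>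
      rw [Finset.coe_insert, Set.insert_eq, Set.preimage_union]
      refine ⟨(hcl c).union ih.1, hU _ _ (hcl c) ih.1 ?_ (hc _ (hcl c) ?_) ih.2⟩
      · exact Disjoint.preimage _ (Set.disjoint_singleton_left.2 (by simpa using hcs))
      · obtain ⟨x, rfl⟩ := ConnectedComponents.surjective_coe c
        rw [connectedComponents_preimage_singleton]
        exact isConnected_connectedComponent
  haveI := Fintype.ofFinite (_root_.ConnectedComponents T)
  simpa using (hs Finset.univ).2

/-- Components are clopen. -/
theorem isClopen_connectedComponent {T : Type*} [TopologicalSpace T] [Finite (_root_.ConnectedComponents T)]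
    (x : T) : IsClopen (connectedComponent x) := by
  refine ⟨isClosed_connectedComponent, ?_⟩
  rw [← isClosed_compl_iff]
  have : (connectedComponent x)ᶜ = ConnectedComponents.mk ⁻¹' {ConnectedComponents.mk x}ᶜ := by
    rw [Set.preimage_compl, connectedComponents_preimage_singleton]
  rw [this, ← Set.biUnion_preimage_singleton]
  refine (Set.toFinite _).isClosed_biUnion fun d _ => ?_
  obtain ⟨y, rfl⟩ := ConnectedComponents.surjective_coe d
  rw [connectedComponents_preimage_singleton]
  exact isClosed_connectedComponent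

variable [IsProper (X ↘ Spec (CommRingCat.of k))] (hd : topologicalKrullDim X ≤ 1)

include hd in
theorem dim_support_le (M : X.Modules) : topologicalKrullDim (CohB1.support M) ≤ (1 : ℕ) :=
  (Topology.IsEmbedding.subtypeVal.isInducing.topologicalKrullDim_le).trans (by simpa using hd)

include hd in
/-- Hilbert polynomials in dimension one. -/
theorem hilb_linear {L : X.Modules} (hL : PicF.IsInvertible L) {M : X.Modules} (hM : Coh.IsCoh M) {P : ℚ[X]}
    (hP : _root_.ShStab.IsHilbPoly k X L M P) :
    P = Polynomial.C (Curv2.euler k X M : ℚ) + Polynomial.C (al k L M : ℚ) * Polynomial.X := by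
  have hn := natDegree_le (k := k) (d := 1) hL hM (dim_support_le hd M) hP
  have e := P.eq_X_add_C_of_natDegree_le_one hn
  have h0 : Curv2.euler k X (_root_.ShStab.twist X L M 0) = Curv2.euler k X M :=
    Groth.L21.RR.euler_congr k (Groth.L00.Tensor.tensorUnitRight M)
  have h1 : Curv2.euler k X (_root_.ShStab.twist X L M 1) = Curv2.euler k X (CohB1.tensorMod M L) :=
    Groth.L21.RR.euler_congr k (Groth.L00.Tensor.tensorIso (Iso.refl M) (Groth.L00.Tensor.tensorUnitLeft L))
  have a0 := hP 0
  have a1 := hP 1
  rw [h0, e] at a0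
  rw [h1, e] at a1
  simp at a0 a1
  rw [e, al, Int.cast_sub, a0, a1]
  simp [add_comm]

theorem alpha_linear (a b : ℚ) : alpha 1 (Polynomial.C a + Polynomial.C b * Polynomial.X) = b := by
  simp [alpha, coeff_C]

theorem redLE_linear {a b c d : ℚ} :
    RedLE 1 (Polynomial.C a + Polynomial.C b * Polynomial.X) (Polynomial.C c + Polynomial.C d * Polynomial.X) ↔
      d * a ≤ b * c := by
  have e : b • (Polynomial.C c + Polynomial.C d * Polynomial.X) - d • (Polynomial.C a + Polynomial.C b * Polynomial.X) =
      Polynomial.C (b * c - d * a) := by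
    simp [smul_eq_C_mul]
    ring
  rw [RedLE, alpha_linear, alpha_linear, PolyOrd.polyLE_iff, e, leadingCoeff_C, sub_nonneg]

variable [IsLocallyNoetherian X]

include hd in
theorem al_pos {L : X.Modules} (hL : CohB1.IsAmple L) {M : X.Modules} (hM : Coh.IsCoh M)
    (hp : _root_.ShStab.IsPure X M 1) (h0 : ¬ IsZero M) : 0 < al k L M := by
  obtain ⟨P, hP⟩ := exists_hilb (k := k) (d := 1) hL.1 hM (dim_support_le hd M)
  have h := alpha_pos (k := k) hL hM (hp M (𝟙 M) inferInstance hM h0) hP
  rw [hilb_linear k hd hL.1 hM hP, alpha_linear] at h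
  exact_mod_cast h

theorem al_isZero {L M : X.Modules} (h : IsZero M) : al k L M = 0 := by
  have hz : IsZero (CohB1.tensorMod M L) := (Groth.L21.Mod.isZero_iff_stalk_subsingleton _).2 fun x => by
    refine subsingleton_of_forall_eq 0 fun v => ?_
    obtain ⟨t, rfl⟩ := (Groth.L00.Stk.τ x M L).toLinearEquiv.surjective v
    haveI := (Groth.L21.Mod.isZero_iff_stalk_subsingleton _).1 h x
    refine Eq.trans (congrArg _ ?_) (map_zero (Groth.L00.Stk.τ x M L).toLinearEquiv)
    induction t using TensorProduct.induction_on with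
    | zero => rfl
    | tmul p q =>
      exact (congrArg (· ⊗ₜ q) (Subsingleton.elim (α := M.presheaf.stalk x) p 0)).trans (TensorProduct.zero_tmul _ _)
    | add p q hp hq => rw [hp, hq, add_zero]
  rw [al, Groth.L03.Euler.euler_of_isZero hz, Groth.L03.Euler.euler_of_isZero h, sub_zero]

include hd in
/-- Semistability as inequalities. -/
theorem ss_ineq {L E : X.Modules} (hL : CohB1.IsAmple L) (hE : _root_.ShStab.IsSemistable k X L E 1)
    {F : X.Modules} (ι : F ⟶ E) [Mono ι] (hF : Coh.IsCoh F) :
    al k L E * Curv2.euler k X F ≤ al k L F * Curv2.euler k X E := by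
  obtain ⟨hEc, -, -, hss⟩ := hE
  by_cases hi : IsIso ι
  · haveI := hi
    rw [al, al, Groth.L21.RR.euler_congr k (asIso ι),
      Groth.L21.RR.euler_congr k (Groth.L00.Tensor.tensorIso (asIso ι) (Iso.refl L))]
  by_cases h0 : IsZero F
  · rw [Groth.L03.Euler.euler_of_isZero h0, al_isZero k h0]; simp
  obtain ⟨pF, hpF⟩ := exists_hilb (k := k) (d := 1) hL.1 hF (dim_support_le hd F)
  obtain ⟨pE, hpE⟩ := exists_hilb (k := k) (d := 1) hL.1 hEc (dim_support_le hd E)
  have h := hss F ι inferInstance hF h0 hi pF pE hpF hpE
  rw [hilb_linear k hd hL.1 hF hpF, hilb_linear k hd hL.1 hEc hpE, redLE_linear] at h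
  exact_mod_cast h

include hd in
theorem ss_of_ineq {L E : X.Modules} (hL : CohB1.IsAmple L) (hEc : Coh.IsCoh E) (h0 : ¬ IsZero E)
    (hp : _root_.ShStab.IsPure X E 1)
    (h : ∀ (F : X.Modules) (ι : F ⟶ E), Mono ι → Coh.IsCoh F →
      al k L E * Curv2.euler k X F ≤ al k L F * Curv2.euler k X E) :
    _root_.ShStab.IsSemistable k X L E 1 := by
  refine ⟨hEc, h0, hp, fun F ι hι hF _ _ pF pE hpF hpE => ?_⟩
  rw [hilb_linear k hd hL.1 hF hpF, hilb_linear k hd hL.1 hEc hpE, redLE_linear]
  exact_mod_cast h F ι hι hF

theorem euler_parts (A B : X.Opens) (hA : IsClopen (A : Set X)) (hB : IsClopen (B : Set X))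
    (hd' : Disjoint (A : Set X) B) {M : X.Modules} (hM : Coh.IsCoh M) :
    Curv2.euler k X ((part (A ⊔ B)).obj M) =
      Curv2.euler k X ((part A).obj M) + Curv2.euler k X ((part B).obj M) := by
  have hAB : IsClopen ((A ⊔ B : X.Opens) : Set X) := by rw [Opens.coe_sup]; exact hA.union hB
  have hP := isCoh_part (A ⊔ B) hAB hM
  rw [euler_add_parts A hA k B hB hd' hP fun x hxA hxB =>
    subsingleton_part (A ⊔ B) hAB M fun hx => hx.elim hxA hxB,
    ← euler_part_congr A k (proj (A ⊔ B) M) fun x hx => bijective_proj _ M (Or.inl hx),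
    ← euler_part_congr B k (proj (A ⊔ B) M) fun x hx => bijective_proj _ M (Or.inr hx)]

theorem al_part (U : X.Opens) (hU : IsClopen (U : Set X)) (L M : X.Modules) :
    al k L ((part U).obj M) =
      Curv2.euler k X ((part U).obj (CohB1.tensorMod M L)) - Curv2.euler k X ((part U).obj M) := by
  rw [al, euler_tensor_part U hU k]

theorem al_parts (A B : X.Opens) (hA : IsClopen (A : Set X)) (hB : IsClopen (B : Set X))
    (hd' : Disjoint (A : Set X) B) {L M : X.Modules} (hL : PicF.IsInvertible L) (hM : Coh.IsCoh M) :
    al k L ((part (A ⊔ B)).obj M) = al k L ((part A).obj M) + al k L ((part B).obj M) := by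
  haveI := hM.1
  have hML : Coh.IsCoh (CohB1.tensorMod M L) := by
    have hLc := Groth.L16.ProperFinite.isCoh_of_isInvertible hL
    haveI := hLc.1
    exact ⟨Groth.L00.Tensor.isQCoh_tensorMod _ _, Groth.L00.Tensor.isFT_tensorMod _ _ hM.2 hLc.2⟩
  rw [al_part k _ (by rw [Opens.coe_sup]; exact hA.union hB), al_part k A hA, al_part k B hB,
    euler_parts k A B hA hB hd' hM, euler_parts k A B hA hB hd' hML]
  ring

theorem part_univ {M : X.Modules} (U : X.Opens) (hU : (U : Set X) = Set.univ) :
    Nonempty (M ≅ (part U).obj M) := by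
  haveI := isIso_proj U (by rw [hU]; exact isClopen_univ) (M := M) fun x hx => absurd (show x ∈ (U : Set X) by rw [hU]; trivial) hx
  exact ⟨asIso (proj U M)⟩

theorem euler_part_empty (U : X.Opens) (hU : (U : Set X) = ∅) (M : X.Modules) : IsZero ((part U).obj M) :=
  (Groth.L21.Mod.isZero_iff_stalk_subsingleton _).2 fun x =>
    subsingleton_part U (by rw [hU]; exact isClopen_empty) M fun hx => by
      have : x ∈ (U : Set X) := hx
      rw [hU] at this
      exact this

/-- A statement linear in the parts follows from the components. -/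
theorem linear_of_components [Finite (_root_.ConnectedComponents X)] {L M : X.Modules} (hL : PicF.IsInvertible L)
    (hM : Coh.IsCoh M) {a b : ℤ}
    (h : ∀ U : X.Opens, IsClopen (U : Set X) → _root_.IsConnected (U : Set X) →
      a * Curv2.euler k X ((part U).obj M) ≤ al k L ((part U).obj M) * b) :
    a * Curv2.euler k X M ≤ al k L M * b := by
  let Q : Set X → Prop := fun A => ∀ U : X.Opens, (U : Set X) = A →
    a * Curv2.euler k X ((part U).obj M) ≤ al k L ((part U).obj M) * b
  have hQ : Q Set.univ := by
    refine induction_components Q (fun U hU => ?_) (fun A B hA hB hAB qA qB U hU => ?_)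
      fun A hA hAc U hU => h U (hU ▸ hA) (hU ▸ hAc)
    · have hz := euler_part_empty U hU M
      rw [Groth.L03.Euler.euler_of_isZero hz, al_isZero k hz]; simp
    · let A' : X.Opens := ⟨A, hA.2⟩
      let B' : X.Opens := ⟨B, hB.2⟩
      obtain rfl : U = A' ⊔ B' := Opens.ext (hU.trans (Opens.coe_sup A' B').symm)
      rw [euler_parts k A' B' hA hB hAB hM, al_parts k A' B' hA hB hAB hL hM]
      have h1 := qA A' rfl
      have h2 := qB B' rfl
      linarith [mul_add a (Curv2.euler k X ((part A').obj M)) (Curv2.euler k X ((part B').obj M)),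
        add_mul (al k L ((part A').obj M)) (al k L ((part B').obj M)) b]
  obtain ⟨e⟩ := part_univ (M := M) ⊤ rfl
  have := hQ ⊤ rfl
  rwa [al, ← Groth.L21.RR.euler_congr k e, ← Groth.L21.RR.euler_congr k (Groth.L00.Tensor.tensorIso e (Iso.refl L))] at this

/-- The part on a clopen is a submodule. -/
theorem exists_inclusion (U : X.Opens) (hU : IsClopen (U : Set X)) (M : X.Modules) :
    ∃ ι : (part U).obj M ⟶ M, Mono ι := by
  let V : X.Opens := ⟨(U : Set X)ᶜ, hU.compl.2⟩
  have hV : IsClopen (V : Set X) := hU.compl
  let κ := kernel.ι (proj V M)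
  have hstk : ∀ x, Function.Injective ((Groth.L00.Stk.F X x).map κ) :=
    fun x => (Groth.L21.Mod.mono_iff_stalk_injective _).1 inferInstance x
  haveI : IsIso (proj U (kernel (proj V M))) := isIso_proj U hU fun x hx => by
    refine subsingleton_of_forall_eq 0 fun v => hstk x ((bijective_proj V M (x := x) hx).1 ?_)
    have h0 : (Groth.L00.Stk.F X x).map κ ≫ (Groth.L00.Stk.F X x).map (proj V M) = 0 := by
      rw [← Functor.map_comp, kernel.condition, Functor.map_zero]
    exact (congr($h0 v)).trans (congr($h0 0)).symm
  haveI : IsIso ((part U).map κ) := isIso_part_map U κ fun x hx => ⟨hstk x, fun v => by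
    haveI := subsingleton_part V hV M (x := x) fun hxV => hxV hx
    exact (ShortComplex.moduleCat_exact_iff _).1
      ((ShortComplex.exact_kernel (proj V M)).map (Groth.L00.Stk.F X x)) v
      (Subsingleton.elim (α := ((part V).obj M).presheaf.stalk x) _ _)⟩
  exact ⟨inv ((part U).map κ) ≫ inv (proj U (kernel (proj V M))) ≫ κ, inferInstance⟩

end Groth.L21.DisjSS
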