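import Groth.Agent.L21.DisjSS.Semistable
import Groth.Agent.L22.CurveDeg.TensorDeg
import Groth.Agent.L21.Disc.Push
import Groth.Agent.L21.Curve.NormalConnected
import Groth.Agent.L21.Smooth.Scheme
import Groth.Agent.L21.Weil.Closed
import Groth.Agent.L20.DescLocus.Main
import Groth.Agent.L03.Euler.Push
import Groth.Agent.L00.TensorRestrict
import Groth.Agent.L12.FinCov.Frame
import Groth.Agent.L16.NegPow.Gen

/-!
Euler characteristics of tensor products on the components of a smooth projective curve.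
-/

set_option autoImplicit false
set_option backward.isDefEq.respectTransparency false
set_option linter.style.haveILetI false

universe u

open CategoryTheory CategoryTheory.Limits AlgebraicGeometry TopologicalSpace

noncomputable section

namespace Groth.L21.DisjSS

variable (k : Type u) [Field k] {X : Scheme.{u}} [X.Over (Spec (CommRingCat.of k))]
  [IsProper (X ↘ Spec (CommRingCat.of k))] [Smooth (X ↘ Spec (CommRingCat.of k))]
  (hd : topologicalKrullDim X ≤ 1)

include hd in
/-- The invariants of two bundles and their product on a component. -/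
theorem tensor_numbers (U : X.Opens) (hU : IsClopen (U : Set X)) (hUc : _root_.IsConnected (U : Set X))
    {L A B : X.Modules} (hL : PicF.IsInvertible L) (hA : FlatMod.IsFinLocFree A) (hB : FlatMod.IsFinLocFree B)
    (hA0 : ∀ y, ¬ Subsingleton (A.presheaf.stalk y)) (hB0 : ∀ y, ¬ Subsingleton (B.presheaf.stalk y)) :
    ∃ (a b : ℕ), 0 < a ∧ 0 < b ∧
      FlatMod.IsFinLocFreeOfRank a (A.restrict U.ι) ∧ FlatMod.IsFinLocFreeOfRank b (B.restrict U.ι) ∧
      let l := Curv2.euler k X ((part U).obj L) - Curv2.euler k X ((part U).obj (Coh.structureModule X))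
      al k L ((part U).obj A) = a * l ∧ al k L ((part U).obj B) = b * l ∧
      al k L ((part U).obj (CohB1.tensorMod A B)) = (a * b : ℕ) * l ∧
      Curv2.euler k X ((part U).obj (CohB1.tensorMod A B)) =
        b * Curv2.euler k X ((part U).obj A) + a * Curv2.euler k X ((part U).obj B) -
          (a * b : ℕ) * Curv2.euler k X ((part U).obj (Coh.structureModule X)) := by
  haveI : IsLocallyNoetherian X := LocallyOfFiniteType.isLocallyNoetherian (X ↘ Spec (CommRingCat.of k))
  haveI : X.IsSeparated := ⟨by rw [← terminal.comp_from (X ↘ Spec (CommRingCat.of k))]; infer_instance⟩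
  haveI := isClosedImmersion_ι U hU
  letI : (U : Scheme.{u}).Over (Spec (CommRingCat.of k)) := ⟨U.ι ≫ X ↘ Spec (CommRingCat.of k)⟩
  haveI : IsProper ((U : Scheme.{u}) ↘ Spec (CommRingCat.of k)) :=
    inferInstanceAs (IsProper (U.ι ≫ X ↘ Spec (CommRingCat.of k)))
  haveI : Smooth ((U : Scheme.{u}) ↘ Spec (CommRingCat.of k)) :=
    inferInstanceAs (Smooth (U.ι ≫ X ↘ Spec (CommRingCat.of k)))
  haveI : IsLocallyNoetherian (U : Scheme.{u}) := isLocallyNoetherian_of_isOpenImmersion U.ι
  haveI := Groth.L21.RR.isNoetherian_of_proper (X := (U : Scheme.{u})) k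
  haveI : ConnectedSpace (U : Scheme.{u}) := isConnected_iff_connectedSpace.1 hUc
  haveI : IsIntegral (U : Scheme.{u}) := Groth.L21.NormalTotal.isIntegral_of_connected fun x =>
    Groth.L21.Smooth.isDomain_stalk ((U : Scheme.{u}) ↘ Spec (CommRingCat.of k)) x
  have hdU : topologicalKrullDim (U : Scheme.{u}) ≤ 1 :=
    (U.ι.isClosedEmbedding.isInducing.topologicalKrullDim_le).trans hd
  have hres : ∀ {M : X.Modules}, FlatMod.IsFinLocFree M → FlatMod.IsFinLocFree (M.restrict U.ι) := fun {M} hM => by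
    have h := Groth.L20.DescLocus.isFinLocFree_pullback U.ι hM
    intro y
    obtain ⟨V, n, hy, ⟨e⟩⟩ := h y
    exact ⟨V, n, hy, ⟨(Scheme.Modules.restrictFunctor V.ι).mapIso
      ((Scheme.Modules.restrictFunctorIsoPullback U.ι).app M) ≪≫ e⟩⟩
  obtain ⟨a, ha⟩ := Groth.L21.Disc.exists_rank (hres hA)
  obtain ⟨b, hb⟩ := Groth.L21.Disc.exists_rank (hres hB)
  have hl : FlatMod.IsFinLocFreeOfRank 1 (L.restrict U.ι) :=
    Groth.L12.FinCov.isFinLocFreeOfRank_one_of_isInvertible (Groth.L18.Ample.isInvertible_restrict hL U)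
  have hpos : ∀ {n : ℕ} {M : X.Modules}, FlatMod.IsFinLocFreeOfRank n (M.restrict U.ι) →
      (∀ y, ¬ Subsingleton (M.presheaf.stalk y)) → 0 < n := fun {n M} hn h0 => by
    by_contra hc
    obtain rfl : n = 0 := by omega
    obtain ⟨⟨y, hy⟩⟩ := (inferInstance : Nonempty (U : Scheme.{u}))
    obtain ⟨θ⟩ := Groth.L22.CurveDeg.nonempty_stalk_equiv hn ⟨y, hy⟩
    haveI hs : Subsingleton ((M.restrict U.ι).presheaf.stalk ⟨y, hy⟩) := θ.symm.toEquiv.subsingleton
    exact h0 y (@Equiv.subsingleton _ _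
      ((Groth.L21.Mod.restrictStalkF U.ι ⟨y, hy⟩).app M).addCommGroupIsoToAddEquiv.toEquiv.symm hs)
  have hpush : ∀ {M : X.Modules}, Coh.IsQCoh M →
      Curv2.euler k X ((part U).obj M) = Curv2.euler k (U : Scheme.{u}) (M.restrict U.ι) := fun {M} hM => by
    haveI := hM
    exact Groth.L03.Euler.euler_push (k := k) U.ι (M.restrict U.ι) inferInstance rfl
  have hqA := (Groth.L16.NegPow.isCoh_of_isFinLocFree hA).1
  have hqB := (Groth.L16.NegPow.isCoh_of_isFinLocFree hB).1
  have hqL := (Groth.L16.ProperFinite.isCoh_of_isInvertible hL).1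
  have hqO : Coh.IsQCoh (Coh.structureModule X) := Groth.L16.CohClosedPush.isCoh_structure.1
  have hqAB : Coh.IsQCoh (CohB1.tensorMod A B) := by
    haveI := hqA; haveI := hqB; exact Groth.L00.Tensor.isQCoh_tensorMod _ _
  have hO : Curv2.euler k X ((part U).obj (Coh.structureModule X)) =
      Curv2.euler k (U : Scheme.{u}) (Coh.structureModule (U : Scheme.{u})) :=
    (hpush hqO).trans (Groth.L21.RR.euler_congr k (Scheme.Modules.restrictUnitIso U.ι))
  have hab : FlatMod.IsFinLocFreeOfRank (a * b) (CohB1.tensorMod (A.restrict U.ι) (B.restrict U.ι)) :=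
    Groth.L21.Weil.rk_tensor ha hb
  have key : ∀ {n : ℕ} {M : X.Modules}, Coh.IsQCoh M → FlatMod.IsFinLocFreeOfRank n (M.restrict U.ι) →
      al k L ((part U).obj M) = n * (Curv2.euler k X ((part U).obj L) -
        Curv2.euler k X ((part U).obj (Coh.structureModule X))) := fun {n M} hM hn => by
    haveI := hM
    haveI := hqL
    have h := Groth.L22.CurveDeg.deg_tensor_locFree k hdU hn hl
    simp only [Curv2.deg, mul_one] at h
    rw [al_part k U hU, hpush (Groth.L00.Tensor.isQCoh_tensorMod M L), hpush hM, hpush hqL, hO,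
      ← Groth.L21.RR.euler_congr k (Groth.L00.Tensor.tensorRestrict U.ι M L)]
    push_cast at h ⊢
    linarith
  have hAB' : FlatMod.IsFinLocFreeOfRank (a * b) ((CohB1.tensorMod A B).restrict U.ι) := fun y => by
    obtain ⟨V, hy, ⟨e⟩⟩ := hab y
    exact ⟨V, hy, ⟨(Scheme.Modules.restrictFunctor V.ι).mapIso (Groth.L00.Tensor.tensorRestrict U.ι A B).symm ≪≫ e⟩⟩
  refine ⟨a, b, hpos ha hA0, hpos hb hB0, ha, hb, key hqA ha, key hqB hb, key hqAB hAB', ?_⟩
  have h := Groth.L22.CurveDeg.deg_tensor_locFree k hdU ha hb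
  simp only [Curv2.deg] at h
  rw [hpush hqAB, hpush hqA, hpush hqB, hO,
    ← Groth.L21.RR.euler_congr k (Groth.L00.Tensor.tensorRestrict U.ι A B)]
  push_cast at h ⊢
  linarith

end Groth.L21.DisjSS

namespace Groth.L21.DisjSS

variable (k : Type u) [Field k] {X : Scheme.{u}} [X.Over (Spec (CommRingCat.of k))]
  [IsProper (X ↘ Spec (CommRingCat.of k))] [IsLocallyNoetherian X]

open Groth.L03.ShStab.Basic in
theorem al_nonneg (hd : topologicalKrullDim X ≤ 1) {L M : X.Modules} (hL : CohB1.IsAmple L) (hM : Coh.IsCoh M) :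
    0 ≤ al k L M := by
  obtain ⟨P, hP⟩ := exists_hilb (k := k) (d := 1) hL.1 hM (dim_support_le hd M)
  have h := alpha_nonneg (k := k) hL hM (dim_support_le hd M) hP
  rw [hilb_linear k hd hL.1 hM hP, alpha_linear] at h
  exact_mod_cast h

/-- Multiplicity is positive if it is so on a part. -/
theorem al_pos_of_part (hd : topologicalKrullDim X ≤ 1) {L M : X.Modules} (hL : CohB1.IsAmple L) (hM : Coh.IsCoh M)
    (U : X.Opens) (hU : IsClopen (U : Set X)) (h : 0 < al k L ((part U).obj M)) : 0 < al k L M := by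
  let V : X.Opens := ⟨(U : Set X)ᶜ, hU.compl.2⟩
  obtain ⟨e⟩ := part_univ (M := M) (U ⊔ V) (by rw [Opens.coe_sup]; exact Set.union_compl_self _)
  have e2 := al_parts k U V hU hU.compl disjoint_compl_right hL.1 hM
  rw [al, ← Groth.L21.RR.euler_congr k e,
    ← Groth.L21.RR.euler_congr k (Groth.L00.Tensor.tensorIso e (Iso.refl L))] at e2
  change al k L M = _ at e2
  have := al_nonneg k hd hL (isCoh_part V hU.compl hM)
  omega

end Groth.L21.DisjSS
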